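import Mathlib

set_option autoImplicit false

/-! helper23: maps between objects of the derived category detected on cohomology -/

open CategoryTheory Limits Pretriangulated Triangulated DerivedCategory

universe w v u

namespace Groth.Agent.H23.Der

variable {A : Type u} [Category.{v} A] [Abelian A] [HasDerivedCategory.{w} A]

/-- the canonical t-structure -/
noncomputable abbrev tt : TStructure (DerivedCategory A) := DerivedCategory.TStructure.t

lemma eq_zero_of_single {X Y : DerivedCategory A} (m : ℤ) [X.IsGE m] [X.IsLE m] [Y.IsGE m]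
    [Y.IsLE m] (g : X ⟶ Y) (hg : (homologyFunctor A m).map g = 0) : g = 0 := by
  obtain ⟨M, ⟨eX⟩⟩ := exists_iso_singleFunctor_obj_of_isGE_of_isLE X m
  obtain ⟨N, ⟨eY⟩⟩ := exists_iso_singleFunctor_obj_of_isGE_of_isLE Y m
  obtain ⟨u, hu⟩ := (singleFunctor A m).map_surjective (eX.inv ≫ g ≫ eY.hom)
  have hu0 : u = 0 := by
    have nat := NatIso.naturality_1 (singleFunctorCompHomologyFunctorIso A m) u
    dsimp at nat
    rw [← nat, hu, Functor.map_comp, Functor.map_comp, hg]
    simp
  rw [hu0, Functor.map_zero] at hu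
  have : g = eX.hom ≫ (eX.inv ≫ g ≫ eY.hom) ≫ eY.inv := by simp
  rw [this, ← hu]
  simp

lemma eq_zero_of_isLE_isGE {X Y : DerivedCategory A} (m : ℤ) [X.IsLE m] [Y.IsGE m]
    (g : X ⟶ Y) (hg : (homologyFunctor A m).map g = 0) : g = 0 := by
  have hπd : (tt.truncGEπ m).app X ≫ tt.descTruncGE g m = g := tt.π_descTruncGE g m
  have hlι : tt.liftTruncLT (tt.descTruncGE g m) m (m + 1) rfl ≫ (tt.truncLTι (m + 1)).app Y =
      tt.descTruncGE g m := tt.liftTruncLT_ι (tt.descTruncGE g m) m (m + 1) rfl
  have hepi : Epi ((homologyFunctor A m).map ((tt.truncGEπ m).app X)) := by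
    refine (HomologySequence.epi_homologyMap_mor₂_iff _ (tt.triangleLTGE_distinguished m X)
      m (m + 1) rfl).2 ?_
    apply IsZero.eq_of_tgt
    exact isZero_of_isLE ((tt.truncLT m).obj X) (m - 1) (m + 1) (by lia)
  have hmono : Mono ((homologyFunctor A m).map ((tt.truncLTι (m + 1)).app Y)) := by
    refine (HomologySequence.mono_homologyMap_mor₁_iff _
      (tt.triangleLTGE_distinguished (m + 1) Y) (m - 1) m (by lia)).2 ?_
    apply IsZero.eq_of_src
    exact isZero_of_isGE ((tt.truncGE (m + 1)).obj Y) (m + 1) (m - 1) (by lia)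
  have hl : (homologyFunctor A m).map (tt.liftTruncLT (tt.descTruncGE g m) m (m + 1) rfl) = 0 := by
    have : (homologyFunctor A m).map ((tt.truncGEπ m).app X) ≫
        (homologyFunctor A m).map (tt.liftTruncLT (tt.descTruncGE g m) m (m + 1) rfl) ≫
        (homologyFunctor A m).map ((tt.truncLTι (m + 1)).app Y) = 0 := by
      rw [← Functor.map_comp, ← Functor.map_comp, hlι, hπd, hg]
    rw [← cancel_epi ((homologyFunctor A m).map ((tt.truncGEπ m).app X)),
      ← cancel_mono ((homologyFunctor A m).map ((tt.truncLTι (m + 1)).app Y))]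
    simpa using this
  have l0 := eq_zero_of_single m _ hl
  rw [← hπd, ← hlι, l0]
  simp

/-- iterated composition -/
def pw {C : Type*} [Category C] {X : C} (f : X ⟶ X) : ℕ → (X ⟶ X)
  | 0 => 𝟙 X
  | k + 1 => f ≫ pw f k

lemma pw_comp {C : Type*} [Category C] {X Y : C} (g : X ⟶ Y) (ι : Y ⟶ X) (k : ℕ) :
    pw (g ≫ ι) (k + 1) = g ≫ pw (ι ≫ g) k ≫ ι := by
  induction k with
  | zero => simp [pw]
  | succ k ih =>
    have : pw (g ≫ ι) (k + 1 + 1) = (g ≫ ι) ≫ pw (g ≫ ι) (k + 1) := rfl
    rw [this, ih]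
    simp [pw]

lemma end_pow_eq_pw {C : Type*} [Category C] {X : C} (f : End X) (k : ℕ) :
    (f ^ k : End X) = pw (show X ⟶ X from f) k := by
  induction k with
  | zero => rfl
  | succ k ih =>
    rw [pow_succ, End.mul_def, ih]
    rfl

theorem ghost_pow_eq_zero (a : ℤ) (n : ℕ) :
    ∀ (X : DerivedCategory A) [X.IsGE a] [X.IsLE (a + n)] (f : X ⟶ X)
      (_ : ∀ i : ℤ, (homologyFunctor A i).map f = 0), pw f (n + 1) = 0 := by
  induction n with
  | zero =>
    intro X _ _ f hf
    have : X.IsLE a := by simpa using (inferInstance : X.IsLE (a + (0 : ℕ)))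
    have hf0 : f = 0 := eq_zero_of_single a f (hf a)
    simp [pw, hf0]
  | succ n ih =>
    intro X _ hLE f hf
    obtain ⟨m, hm⟩ : ∃ m : ℤ, m = a + (n + 1 : ℕ) := ⟨_, rfl⟩
    have : X.IsLE m := by rw [hm]; exact hLE
    -- f ≫ p = 0
    have hfp : f ≫ (tt.truncGEπ m).app X = 0 := by
      apply eq_zero_of_isLE_isGE m
      rw [Functor.map_comp, hf, zero_comp]
    obtain ⟨g, hg'⟩ : ∃ g : X ⟶ (tt.truncLT m).obj X, f = g ≫ (tt.truncLTι m).app X :=
      Triangle.coyoneda_exact₂ _ (tt.triangleLTGE_distinguished m X) f hfp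
    have hLE' : ((tt.truncLT m).obj X).IsLE (a + n) :=
      tt.isLE_truncLT_obj X m (a + n) (by rw [hm]; push_cast; lia)
    have hφ : ∀ i : ℤ, (homologyFunctor A i).map ((tt.truncLTι m).app X ≫ g) = 0 := by
      intro i
      by_cases hi : i < m
      · have hmono : Mono ((homologyFunctor A i).map ((tt.truncLTι m).app X)) := by
          refine (HomologySequence.mono_homologyMap_mor₁_iff _
            (tt.triangleLTGE_distinguished m X) (i - 1) i (by lia)).2 ?_
          apply IsZero.eq_of_src
          exact isZero_of_isGE ((tt.truncGE m).obj X) m (i - 1) (by lia)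
        have hgi : (homologyFunctor A i).map g = 0 := by
          rw [← cancel_mono ((homologyFunctor A i).map ((tt.truncLTι m).app X)),
            ← Functor.map_comp, ← hg', hf, zero_comp]
        rw [Functor.map_comp, hgi, comp_zero]
      · apply IsZero.eq_of_src
        exact isZero_of_isLE ((tt.truncLT m).obj X) (a + n) i (by rw [hm] at hi; push_cast at hi; lia)
    have := ih ((tt.truncLT m).obj X) ((tt.truncLTι m).app X ≫ g) hφ
    rw [hg', pw_comp, this]
    simp

end Groth.Agent.H23.Der
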